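import Groth.Agent.GrHilb.Poly
import Groth.Agent.VarDim.Proj
import Mathlib.RingTheory.GradedAlgebra.Radical

/-!
Hilbert functions of homogeneous ideals of a polynomial ring over a field.
-/

set_option autoImplicit false
set_option backward.isDefEq.respectTransparency false
set_option backward.isDefEq.respectTransparency.types false

universe u

open MvPolynomial Filter

namespace Groth.Agent.GrHilb

open HSLib (EvPoly)

variable {k : Type u} [Field k] {n : ℕ}

local notation "R" => MvPolynomial (Fin (n + 1)) k
local notation "G" => homogeneousSubmodule (Fin (n + 1)) k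

/-- Homogeneity for the standard grading. -/
abbrev Hom (I : Ideal R) : Prop := I.IsHomogeneous (CohB1.polyGrading n k)

theorem finite_piece (j : ℕ) : Module.Finite k (G j) := by
  haveI : Module.Finite k (restrictTotalDegree (Fin (n + 1)) k j) := inferInstance
  exact Submodule.finiteDimensional_of_le (S₂ := restrictTotalDegree (Fin (n + 1)) k j) fun p hp => by
    rw [mem_restrictTotalDegree]
    exact IsHomogeneous.totalDegree_le hp

attribute [local instance] finite_piece

/-- The Hilbert function. -/
noncomputable def h (I : Ideal R) (m : ℕ) : ℕ :=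
  Module.finrank k (↥(G m) ⧸ (Submodule.restrictScalars k I).comap (G m).subtype)

theorem h_cast (I : Ideal R) (m : ℕ) : (h I m : ℚ) =
    (Module.finrank k ↥(G m) : ℚ) - Module.finrank k ↥(Submodule.restrictScalars k I ⊓ G m) := by
  have h1 := Submodule.finrank_quotient_add_finrank ((Submodule.restrictScalars k I).comap (G m).subtype)
  have e : Module.finrank k ↥((Submodule.restrictScalars k I).comap (G m).subtype) =
      Module.finrank k ↥(Submodule.restrictScalars k I ⊓ G m) := by
    rw [← Submodule.finrank_map_subtype_eq, Submodule.map_comap_subtype, inf_comm]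
  rw [e] at h1
  rw [← h1, h]
  push_cast
  ring

theorem h_eq_sub (I : Ideal R) (m : ℕ) :
    h I m = Module.finrank k ↥(G m) - Module.finrank k ↥(Submodule.restrictScalars k I ⊓ G m) := by
  have h1 := h_cast I m
  rw [eq_sub_iff_add_eq] at h1
  norm_cast at h1
  omega

theorem evPoly_of_hyp {I : Ideal R} {P : Polynomial ℚ}
    (hP : ∃ m₀ : ℕ, ∀ m : ℕ, m₀ ≤ m → P.eval (m : ℚ) =
      (Module.finrank k ↥(CohB1.polyGrading n k m) : ℚ) -
        Module.finrank k ↥(Submodule.restrictScalars k I ⊓ CohB1.polyGrading n k m)) : EvPoly (h I) P := by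
  obtain ⟨m₀, hm⟩ := hP
  exact eventually_atTop.2 ⟨m₀, fun m hm' => (h_cast I m).trans (hm m hm').symm⟩

theorem h_mono {I J : Ideal R} (hIJ : I ≤ J) (m : ℕ) : h J m ≤ h I m := by
  have hle : (Submodule.restrictScalars k I).comap (G m).subtype ≤ (Submodule.restrictScalars k J).comap (G m).subtype :=
    fun x hx => hIJ hx
  exact LinearMap.finrank_le_finrank_of_surjective (f := Submodule.factor hle) (Submodule.factor_surjective hle)

theorem h_top (m : ℕ) : h (⊤ : Ideal R) m = 0 := by
  haveI : Subsingleton (↥(G m) ⧸ (Submodule.restrictScalars k (⊤ : Ideal R)).comap (G m).subtype) :=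
    Submodule.Quotient.subsingleton_iff.2 (by simp)
  exact Module.finrank_zero_of_subsingleton

theorem component_mem {I : Ideal R} (hI : Hom I) (i : ℕ) {x : R} (hx : x ∈ I) :
    homogeneousComponent i x ∈ I := by
  have := hI i hx
  rwa [VarDim.ProjN.proj_apply] at this

theorem hom_of_components {I : Ideal R} (hI : ∀ i, ∀ x ∈ I, homogeneousComponent i x ∈ I) : Hom I := fun i x hx => by
  rw [VarDim.ProjN.proj_apply]
  exact hI i x hx

theorem component_mul {a : R} {e : ℕ} (ha : a.IsHomogeneous e) (m : ℕ) (b : R) :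
    homogeneousComponent (e + m) (a * b) = a * homogeneousComponent m b := by
  classical
  conv_lhs => rw [← sum_homogeneousComponent b, Finset.mul_sum, map_sum]
  have key : ∀ i, homogeneousComponent (e + m) (a * homogeneousComponent i b) =
      if i = m then a * homogeneousComponent i b else 0 := fun i => by
    rw [homogeneousComponent_of_mem (show a * homogeneousComponent i b ∈ G (e + i) from
      ha.mul (homogeneousComponent_isHomogeneous i b))]
    by_cases hi : i = m
    · rw [if_pos (by omega), if_pos hi]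
    · rw [if_neg (by omega), if_neg hi]
  simp_rw [key]
  rw [Finset.sum_ite_eq']
  split_ifs with hm
  · rfl
  · rw [homogeneousComponent_eq_zero m b (by simpa using hm), mul_zero]

theorem component_mul_of_lt {a : R} {e : ℕ} (ha : a.IsHomogeneous e) {m : ℕ} (hm : m < e) (b : R) :
    homogeneousComponent m (a * b) = 0 := by
  classical
  rw [← sum_homogeneousComponent b, Finset.mul_sum, map_sum]
  refine Finset.sum_eq_zero fun i _ => ?_
  rw [homogeneousComponent_of_mem (show a * homogeneousComponent i b ∈ G (e + i) from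
      ha.mul (homogeneousComponent_isHomogeneous i b)), if_neg (by omega)]

/-- The ideal quotient by one element. -/
noncomputable def colon (I : Ideal R) (a : R) : Ideal R := Submodule.comap (LinearMap.mulLeft R a) I

theorem mem_colon {I : Ideal R} {a x : R} : x ∈ colon I a ↔ a * x ∈ I := Iff.rfl

theorem le_colon (I : Ideal R) (a : R) : I ≤ colon I a := fun _ hx => I.mul_mem_left a hx

theorem hom_colon {I : Ideal R} (hI : Hom I) {a : R} {e : ℕ} (ha : a.IsHomogeneous e) : Hom (colon I a) :=
  hom_of_components fun i x hx => by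
    rw [mem_colon, ← component_mul ha]
    exact component_mem hI _ hx

theorem hom_sup_span {I : Ideal R} (hI : Hom I) {a : R} {e : ℕ} (ha : a.IsHomogeneous e) :
    Hom (I ⊔ Ideal.span {a}) :=
  hom_of_components fun i x hx => by
    obtain ⟨y, hy, z, hz, rfl⟩ := Submodule.mem_sup.1 hx
    obtain ⟨b, rfl⟩ := Ideal.mem_span_singleton'.1 hz
    rw [map_add, mul_comm b a]
    refine Ideal.add_mem _ (Ideal.mem_sup_left (component_mem hI i hy)) ?_
    rcases lt_or_ge i e with h1 | h1
    · rw [component_mul_of_lt ha h1]; exact Ideal.zero_mem _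
    · obtain ⟨j, rfl⟩ := Nat.exists_eq_add_of_le h1
      rw [component_mul ha]
      exact Ideal.mem_sup_right (Ideal.mem_span_singleton'.2 ⟨_, mul_comm _ _⟩)

/-- Multiplication by a homogeneous element. -/
theorem h_add {I : Ideal R} (hI : Hom I) {a : R} {e : ℕ} (ha : a.IsHomogeneous e) (m : ℕ) :
    h I (e + m) = h (colon I a) m + h (I ⊔ Ideal.span {a}) (e + m) := by
  let CI := (Submodule.restrictScalars k I).comap (G (e + m)).subtype
  let J := I ⊔ Ideal.span {a}
  let CJ := (Submodule.restrictScalars k J).comap (G (e + m)).subtype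
  have hle : CI ≤ CJ := fun x hx => Ideal.mem_sup_left hx
  let ν : ↥(G m) →ₗ[k] ↥(G (e + m)) :=
    LinearMap.codRestrict (G (e + m)) ((LinearMap.mulLeft k a).comp (G m).subtype) fun x => ha.mul x.2
  let μ : ↥(G m) →ₗ[k] ↥(G (e + m)) ⧸ CI := CI.mkQ.comp ν
  have hker : LinearMap.ker μ = (Submodule.restrictScalars k (colon I a)).comap (G m).subtype := by
    ext x
    rw [LinearMap.mem_ker]
    exact Submodule.Quotient.mk_eq_zero _
  have h1 : Module.finrank k (LinearMap.range μ) = h (colon I a) m := by
    rw [← μ.quotKerEquivRange.finrank_eq, h, hker]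
  have h2 : LinearMap.ker (Submodule.factor hle) = LinearMap.range μ := by
    refine le_antisymm (fun y hy => ?_) ?_
    · obtain ⟨x, rfl⟩ := Submodule.mkQ_surjective CI y
      have hx : (x : R) ∈ J := (Submodule.Quotient.mk_eq_zero CJ).1 hy
      obtain ⟨i, hi, z, hz, hiz⟩ := Submodule.mem_sup.1 hx
      obtain ⟨b, rfl⟩ := Ideal.mem_span_singleton'.1 hz
      refine ⟨⟨homogeneousComponent m b, homogeneousComponent_mem m b⟩, ((Submodule.Quotient.eq CI).2 ?_)⟩
      show a * homogeneousComponent m b - (x : R) ∈ I
      have h3 := congrArg (homogeneousComponent (e + m)) hiz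
      rw [map_add, mul_comm b a, component_mul ha, homogeneousComponent_of_mem x.2, if_pos rfl] at h3
      rw [← h3]
      have : a * homogeneousComponent m b - (homogeneousComponent (e + m) i + a * homogeneousComponent m b) =
          -homogeneousComponent (e + m) i := by ring
      rw [this]
      exact neg_mem (component_mem hI _ hi)
    · rintro _ ⟨x, rfl⟩
      exact (Submodule.Quotient.mk_eq_zero CJ).2 (Ideal.mem_sup_right (Ideal.mem_span_singleton'.2 ⟨x, mul_comm _ _⟩))
  have h4 := LinearMap.finrank_range_add_finrank_ker (Submodule.factor hle)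
  rw [LinearMap.range_eq_top.2 (Submodule.factor_surjective hle), finrank_top, h2, h1] at h4
  show Module.finrank k (↥(G (e + m)) ⧸ CI) = _
  rw [← h4, add_comm]
  rfl

theorem evPoly_add {I : Ideal R} (hI : Hom I) {a : R} {e : ℕ} (ha : a.IsHomogeneous e) {P₁ P₂ : Polynomial ℚ}
    (h₁ : EvPoly (h (colon I a)) P₁) (h₂ : EvPoly (h (I ⊔ Ideal.span {a})) P₂) :
    EvPoly (h I) (P₁.comp (Polynomial.X - Polynomial.C (e : ℚ)) + P₂) := by
  filter_upwards [evPoly_shift h₁ e, h₂, eventually_ge_atTop e] with m h1 h2 hm
  obtain ⟨j, rfl⟩ := Nat.exists_eq_add_of_le hm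
  rw [Nat.add_sub_cancel_left] at h1
  rw [h_add hI ha, Nat.cast_add, Polynomial.eval_add, ← h1, ← h2]

theorem colon_prime {I : Ideal R} [I.IsPrime] {a : R} (ha : a ∉ I) : colon I a = I :=
  le_antisymm (fun _ hx => (Ideal.IsPrime.mem_or_mem ‹_› hx).resolve_left ha) (le_colon I a)

/-- A nonprime proper homogeneous ideal has a homogeneous element splitting it. -/
theorem exists_split {I : Ideal R} (hI : Hom I) (htop : I ≠ ⊤) (hnp : ¬ I.IsPrime) :
    ∃ (a : R) (e : ℕ), a.IsHomogeneous e ∧ I < colon I a ∧ I < I ⊔ Ideal.span {a} := by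
  by_contra hno
  push Not at hno
  refine hnp (hI.isPrime_of_homogeneous_mem_or_mem htop fun {x y} hx _ hxy => ?_)
  obtain ⟨e, he⟩ := hx
  by_contra hc
  push Not at hc
  refine hno x e he (lt_of_le_of_ne (le_colon I x) fun heq => hc.2 (heq ▸ (show y ∈ colon I x from hxy))) ?_
  exact lt_of_le_of_ne le_sup_left fun heq => hc.1 (heq ▸ Ideal.mem_sup_right (Ideal.mem_span_singleton_self x))

theorem h_eq_zero_of_X {I : Ideal R} (hI : ∀ i, (X i : R) ∈ I) {m : ℕ} (hm : 0 < m) : h I m = 0 := by
  haveI : Subsingleton (↥(G m) ⧸ (Submodule.restrictScalars k I).comap (G m).subtype) := by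
    refine Submodule.Quotient.subsingleton_iff.2 (Submodule.eq_top_iff'.2 fun x => ?_)
    show (x : R) ∈ I
    rw [(x : R).as_sum]
    refine Ideal.sum_mem _ fun d hd => ?_
    have hdeg : d.degree = m := by
      have := x.2 (mem_support_iff.1 hd)
      rwa [Finsupp.degree_eq_weight_one]
    obtain ⟨i, hi⟩ : ∃ i, d i ≠ 0 := by
      by_contra hh
      push Not at hh
      have : d = 0 := Finsupp.ext hh
      simp [this] at hdeg
      omega
    have e1 : monomial d (coeff d (x : R)) = monomial (d - Finsupp.single i 1) (coeff d (x : R)) * X i := by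
      rw [X, monomial_mul, mul_one, tsub_add_cancel_of_le (Finsupp.single_le_iff.2 (Nat.one_le_iff_ne_zero.2 hi))]
    rw [e1]
    exact I.mul_mem_left _ (hI i)
  exact Module.finrank_zero_of_subsingleton

/-- Hilbert polynomials exist. -/
theorem exists_evPoly (I : Ideal R) : Hom I → ∃ P : Polynomial ℚ, EvPoly (h I) P := by
  induction I using IsNoetherian.induction with
  | hgt I ih =>
    intro hI
    by_cases htop : I = ⊤
    · exact ⟨0, Eventually.of_forall fun m => by simp [htop, h_top]⟩
    by_cases hp : Ideal.IsPrime I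
    · by_cases hX : ∀ i, (X i : R) ∈ I
      · exact ⟨0, eventually_atTop.2 ⟨1, fun m hm => by simp [h_eq_zero_of_X hX hm]⟩⟩
      push Not at hX
      obtain ⟨i, hi⟩ := hX
      haveI : Ideal.IsPrime I := hp
      have hlt : I < I ⊔ Ideal.span {X i} :=
        lt_of_le_of_ne le_sup_left fun heq => hi (heq ▸ Ideal.mem_sup_right (Ideal.mem_span_singleton_self _))
      obtain ⟨Q, hQ⟩ := ih _ hlt (hom_sup_span hI (isHomogeneous_X k i))
      obtain ⟨P, -, hP⟩ := HSLib.exists_evPoly_of_diff (g := h I) (P := Q.comp (Polynomial.X + 1))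
        (s := (Q.comp (Polynomial.X + 1)).natDegree + 1)
        (lt_of_le_of_lt Polynomial.degree_le_natDegree (by exact_mod_cast Nat.lt_succ_self _))
        (by
          filter_upwards [(tendsto_add_atTop_nat 1).eventually hQ] with m hm
          have h1 := h_add hI (isHomogeneous_X k i) m
          rw [colon_prime hi, add_comm 1 m] at h1
          rw [h1, Nat.cast_add, hm, Polynomial.eval_comp, Polynomial.eval_add, Polynomial.eval_X, Polynomial.eval_one]
          push_cast
          ring)
      exact ⟨P, hP⟩
    · obtain ⟨a, e, ha, h1, h2⟩ := exists_split hI htop hp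
      obtain ⟨P₁, hP₁⟩ := ih _ h1 (hom_colon hI ha)
      obtain ⟨P₂, hP₂⟩ := ih _ h2 (hom_sup_span hI ha)
      exact ⟨_, evPoly_add hI ha hP₁ hP₂⟩

theorem natDegree_le_of_le {I J : Ideal R} (hIJ : I ≤ J) {P Q : Polynomial ℚ} (hP : EvPoly (h I) P)
    (hQ : EvPoly (h J) Q) : Q.natDegree ≤ P.natDegree :=
  HSLib.natDegree_le_of_eventually_le hQ hP (Eventually.of_forall fun m => h_mono hIJ m)

end Groth.Agent.GrHilb
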