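import Groth.Agent.GrHilb.Equidim
import Groth.Agent.CotTLib.CI
import Mathlib.RingTheory.Polynomial.HilbertPoly
import Mathlib.RingTheory.RegularLocalRing.Polynomial
import Mathlib.RingTheory.KrullDimension.Polynomial

/-!
Hilbert polynomial of a projective complete intersection of points.
-/

set_option autoImplicit false
set_option linter.style.haveILetI false
set_option backward.isDefEq.respectTransparency false
set_option backward.isDefEq.respectTransparency.types false

universe u

open MvPolynomial Filter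

namespace Groth.Agent.GrHilb

open HSLib (EvPoly)

variable {k : Type u} [Field k] {n : ℕ}

local notation "R" => MvPolynomial (Fin (n + 1)) k
local notation "G" => homogeneousSubmodule (Fin (n + 1)) k

theorem finrank_homogeneous (N m : ℕ) :
    Module.finrank k (homogeneousSubmodule (Fin N) k m) = (N + m - 1).choose m := by
  classical
  let S : Set (Fin N →₀ ℕ) := {e | e.degree = m}
  let e : {a // a ∈ (Finset.univ : Finset (Fin N)).finsuppAntidiag m} ≃ S :=
    Equiv.subtypeEquivRight fun a => by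
      simp [S, Finset.mem_finsuppAntidiag, Finsupp.degree_eq_sum]
  haveI : Fintype S := Fintype.ofEquiv _ e
  let φ : homogeneousSubmodule (Fin N) k m ≃ₗ[k] (S →₀ k) :=
    (LinearEquiv.ofEq _ _ (homogeneousSubmodule_eq_finsupp_supported _ _ m)).trans
      (AddMonoidAlgebra.supportedEquivFinsupp S)
  rw [φ.finrank_eq, Module.finrank_finsupp_self, ← Fintype.card_congr e, Fintype.card_coe,
    Finset.card_finsuppAntidiag_nat_eq_choose, Finset.card_univ, Fintype.card_fin]

theorem evPoly_bot : EvPoly (h (⊥ : Ideal R)) (Polynomial.preHilbertPoly ℚ n 0) := by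
  refine Eventually.of_forall fun m => ?_
  rw [h_cast, Polynomial.preHilbertPoly_eq_choose_sub_add ℚ n (Nat.zero_le m), finrank_homogeneous,
    Submodule.restrictScalars_bot, bot_inf_eq, finrank_bot, Nat.sub_zero, Nat.cast_zero, sub_zero,
    show n + 1 + m - 1 = m + n by omega, Nat.choose_symm_add]

/-- A homogeneous element multiplied into a homogeneous ideal by a unit at the vertex is in the ideal. -/
theorem mem_of_mul_mem {I : Ideal R} (hI : Hom I) {x s : R} (hs : constantCoeff s ≠ 0) {e : ℕ}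
    (hx : x.IsHomogeneous e) (h : s * x ∈ I) : x ∈ I := by
  have h1 := component_mem hI (e + 0) h
  rw [mul_comm, component_mul hx, homogeneousComponent_zero] at h1
  have h2 := I.mul_mem_right (C (constantCoeff s)⁻¹) h1
  rwa [mul_assoc, ← map_mul, ← constantCoeff_eq, mul_inv_cancel₀ hs, map_one, mul_one] at h2

theorem hom_span {s : Set R} (hs : ∀ x ∈ s, ∃ e, x.IsHomogeneous e) : Hom (Ideal.span s) :=
  Ideal.homogeneous_span _ s fun x hx => let ⟨e, he⟩ := hs x hx; ⟨e, he⟩

variable {N : ℕ}

/-- The ideal of the first members of a sequence. -/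
noncomputable def preI (f : Fin N → MvPolynomial (Fin (n + 1)) k) (i : ℕ) : Ideal R := Ideal.span (f '' {j | (j : ℕ) < i})

variable {f : Fin N → MvPolynomial (Fin (n + 1)) k}

theorem pre_succ {i : ℕ} (hi : i < N) : preI f (i + 1) = preI f i ⊔ Ideal.span {f ⟨i, hi⟩} := by
  rw [preI, preI, ← Ideal.span_union]
  congr 1
  have e : {j : Fin N | (j : ℕ) < i + 1} = {j : Fin N | (j : ℕ) < i} ∪ {⟨i, hi⟩} := by
    ext j; simp [Fin.ext_iff]; omega
  rw [e, Set.image_union, Set.image_singleton]

theorem hom_pre {d : Fin N → ℕ} (hf : ∀ i, (f i).IsHomogeneous (d i)) (i : ℕ) : Hom (preI f i) :=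
  hom_span (by rintro _ ⟨j, -, rfl⟩; exact ⟨_, hf j⟩)

/-- Parameters of the vertex form a regular sequence. -/
theorem colon_pre {d : Fin N → ℕ} (hd : ∀ i, 1 ≤ d i) (hf : ∀ i, (f i).IsHomogeneous (d i))
    (hdim : (N : WithBot ℕ∞) + ringKrullDim (R ⧸ Ideal.span (Set.range f)) = (n + 1 : ℕ)) {i : ℕ} (hi : i < N) :
    colon (preI f i) (f ⟨i, hi⟩) = preI f i := by
  let A := Localization.AtPrime (VarDim.ProjN.vertex k n)
  let φ : R →+* A := algebraMap R A
  haveI : IsRegularLocalRing A := IsRegularRing.isRegularLocalRing_localization (VarDim.ProjN.vertex k n)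
  have hv : ∀ j, f j ∈ VarDim.ProjN.vertex k n := fun j => by
    show constantCoeff (f j) = 0
    rw [constantCoeff_eq]
    exact (hf j).coeff_eq_zero (by rw [map_zero]; exact (hd j).trans_lt' zero_lt_one |>.ne)
  let rs := List.ofFn (φ ∘ f)
  have hspan : Ideal.ofList rs = (Ideal.span (Set.range f)).map φ := by
    rw [Ideal.map_span, ← Set.range_comp, Ideal.ofList]
    congr 1
    ext z
    simp [rs, List.mem_ofFn', eq_comm]
  have hle : Ideal.span (Set.range f) ≤ VarDim.ProjN.vertex k n :=
    Ideal.span_le.2 (by rintro _ ⟨j, rfl⟩; exact hv j)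
  have hI : Hom (Ideal.span (Set.range f)) := hom_span (by rintro _ ⟨j, rfl⟩; exact ⟨_, hf j⟩)
  have hA : ringKrullDim A = (n + 1 : ℕ) := by
    have h1 := S10907.dim_locQuot (⊥ : Ideal R) (Ideal.IsHomogeneous.bot _) bot_le
    rw [ringKrullDim_eq_of_ringEquiv (RingEquiv.quotientBot R), MvPolynomial.ringKrullDim_of_isNoetherianRing,
      ringKrullDim_eq_zero_of_field, zero_add, Nat.card_eq_fintype_card, Fintype.card_fin] at h1
    rw [← h1]
    exact (ringKrullDim_eq_of_ringEquiv ((Ideal.quotEquivOfEq (Ideal.map_bot (f := φ))).trans (RingEquiv.quotientBot A))).symm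
  have hw : RingTheory.Sequence.IsWeaklyRegular A rs := by
    refine CotTLib.isWeaklyRegular_of_dim rs (fun z hz => ?_) ?_
    · obtain ⟨j, rfl⟩ := List.mem_ofFn.1 hz
      rw [← Localization.AtPrime.map_eq_maximalIdeal]
      exact Ideal.mem_map_of_mem _ (hv j)
    · rw [hA, ← hdim, show rs.length = N by simp [rs], hspan]
      congr 1
      exact S10907.dim_locQuot _ hI hle
  have hreg := (RingTheory.Sequence.isWeaklyRegular_iff_Fin A rs).1 hw ⟨i, by simpa [rs] using hi⟩
  refine le_antisymm (fun x hx => ?_) (le_colon _ _)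
  have hpre : Ideal.ofList (rs.take i) = (preI f i).map φ := by
    rw [preI, Ideal.map_span, ← Set.image_comp, Ideal.ofList]
    congr 1
    ext z
    simp only [Set.mem_setOf_eq, List.mem_take_iff_getElem, Set.mem_image, Function.comp_apply, rs,
      List.getElem_ofFn, List.length_ofFn]
    constructor
    · rintro ⟨j, hj, rfl⟩
      exact ⟨⟨j, lt_of_lt_of_le hj (min_le_right _ _)⟩, lt_of_lt_of_le hj (min_le_left _ _), rfl⟩
    · rintro ⟨j, hj, rfl⟩
      exact ⟨j, lt_min hj j.2, rfl⟩
  have key : ∀ y : R, y ∈ colon (preI f i) (f ⟨i, hi⟩) → ∀ e, y.IsHomogeneous e → y ∈ preI f i := by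
    intro y hy e he
    have h1 : (Submodule.Quotient.mk (φ y) : A ⧸ (Ideal.ofList (rs.take i) • ⊤ : Submodule A A)) = 0 := by
      refine hreg.right_eq_zero_of_smul ?_
      rw [← Submodule.Quotient.mk_smul, Submodule.Quotient.mk_eq_zero, smul_eq_mul, smul_eq_mul, Ideal.mul_top, hpre]
      have e1 : rs[(⟨i, by simpa [rs] using hi⟩ : Fin rs.length)] = φ (f ⟨i, hi⟩) := by simp [rs]
      rw [e1, ← map_mul]
      exact Ideal.mem_map_of_mem _ hy
    rw [Submodule.Quotient.mk_eq_zero, smul_eq_mul, Ideal.mul_top, hpre] at h1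
    obtain ⟨⟨⟨z, hz⟩, s⟩, h2⟩ := (IsLocalization.mem_map_algebraMap_iff (VarDim.ProjN.vertex k n).primeCompl A).1 h1
    change φ y * algebraMap R A (s : R) = algebraMap R A z at h2
    rw [← map_mul] at h2
    obtain ⟨c, hc⟩ := (IsLocalization.eq_iff_exists (VarDim.ProjN.vertex k n).primeCompl A).1 h2
    refine mem_of_mul_mem (hom_pre hf i) (s := (c : R) * s) ?_ he ?_
    · rw [map_mul]; exact mul_ne_zero c.2 s.2
    · rw [mul_assoc, mul_comm (s : R) y, hc]; exact Ideal.mul_mem_left _ _ hz
  rw [← sum_homogeneousComponent x]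
  exact Ideal.sum_mem _ fun j _ => key _ (component_mem (hom_colon (hom_pre hf i) (hf _)) j hx) j
    (homogeneousComponent_isHomogeneous j x)

/-- The Hilbert polynomial after cutting by part of the sequence. -/
theorem exists_evPoly_pre {f : Fin n → R} {d : Fin n → ℕ} (hd : ∀ i, 1 ≤ d i) (hf : ∀ i, (f i).IsHomogeneous (d i))
    (hdim : ringKrullDim (R ⧸ Ideal.span (Set.range f)) = 1) : ∀ i, i ≤ n → ∃ P : Polynomial ℚ,
      EvPoly (h (preI f i)) P ∧ P.natDegree = n - i ∧
        (P.natDegree.factorial : ℚ) * P.leadingCoeff = ∏ j ∈ Finset.univ.filter (fun j : Fin n => (j : ℕ) < i), (d j : ℚ) := by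
  intro i
  induction i with
  | zero =>
    intro _
    refine ⟨Polynomial.preHilbertPoly ℚ n 0, ?_, by simp [Polynomial.natDegree_preHilbertPoly], ?_⟩
    · have : preI f 0 = ⊥ := by simp [preI]
      rw [this]; exact evPoly_bot
    · rw [Polynomial.natDegree_preHilbertPoly, Polynomial.leadingCoeff_preHilbertPoly,
        mul_inv_cancel₀ (Nat.cast_ne_zero.2 n.factorial_ne_zero)]
      simp
  | succ i ih =>
    intro hi
    obtain ⟨P, hP, hPd, hPc⟩ := ih (by omega)
    have h1 := evPoly_section (hom_pre hf i) (hf ⟨i, hi⟩)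
      (colon_pre hd hf (by rw [hdim]; norm_cast) hi) hP
    rw [← pre_succ hi] at h1
    obtain ⟨h2, h3⟩ := section_degree (P := P) (d := d ⟨i, hi⟩) (hd _) (by omega)
    refine ⟨_, h1, by omega, ?_⟩
    rw [h3, hPc, show (Finset.univ.filter fun j : Fin n => (j : ℕ) < i + 1) =
      insert ⟨i, hi⟩ (Finset.univ.filter fun j : Fin n => (j : ℕ) < i) by
        ext j; simp [Fin.ext_iff]; omega, Finset.prod_insert (by simp)]

end Groth.Agent.GrHilb
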