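import Groth.Agent.GrHilb.Basic
import Groth.Agent.HSLib.Regular
import Mathlib.RingTheory.Length
import Mathlib.RingTheory.Localization.AtPrime.Basic
import Mathlib.Algebra.Module.LocalizedModule.Exact
import Mathlib.RingTheory.Localization.Module

/-!
The top coefficient of the Hilbert polynomial is the sum over the top primes of length times top coefficient.
-/

set_option autoImplicit false
set_option linter.style.haveILetI false
set_option backward.isDefEq.respectTransparency false
set_option backward.isDefEq.respectTransparency.types false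

universe u

open MvPolynomial Filter

namespace Groth.Agent.GrHilb

open HSLib (EvPoly)

variable {k : Type u} [Field k] {n : ℕ}

local notation "R" => MvPolynomial (Fin (n + 1)) k

/-- The multiplicity of `R / J` at a prime. -/
noncomputable abbrev L (q : Ideal R) [q.IsPrime] (J : Ideal R) : ℕ∞ :=
  Module.length (Localization.AtPrime q) (LocalizedModule q.primeCompl (R ⧸ J))

theorem L_add (q : Ideal R) [q.IsPrime] (I : Ideal R) (a : R) :
    L q I = L q (colon I a) + L q (I ⊔ Ideal.span {a}) := by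
  let f : (R ⧸ colon I a) →ₗ[R] R ⧸ I := Submodule.mapQ (colon I a) I (LinearMap.mulLeft R a) le_rfl
  let g : (R ⧸ I) →ₗ[R] R ⧸ (I ⊔ Ideal.span {a}) := Submodule.factor le_sup_left
  have hf : Function.Injective f := (injective_iff_map_eq_zero f).2 fun y hy => by
    obtain ⟨x, rfl⟩ := Submodule.mkQ_surjective (colon I a) y
    exact (Submodule.Quotient.mk_eq_zero _).2 ((Submodule.Quotient.mk_eq_zero I).1 hy)
  have hex : Function.Exact f g := fun y => by
    obtain ⟨x, rfl⟩ := Submodule.mkQ_surjective I y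
    constructor
    · intro hx
      obtain ⟨i, hi, z, hz, hiz⟩ := Submodule.mem_sup.1 ((Submodule.Quotient.mk_eq_zero _).1 hx)
      obtain ⟨b, rfl⟩ := Ideal.mem_span_singleton'.1 hz
      refine ⟨Submodule.Quotient.mk b, (Submodule.Quotient.eq I).2 ?_⟩
      show a * b - x ∈ I
      rw [show x = i + b * a from hiz.symm, show a * b - (i + b * a) = -i by ring]
      exact neg_mem hi
    · rintro ⟨z, hz⟩
      obtain ⟨b, rfl⟩ := Submodule.mkQ_surjective (colon I a) z
      rw [← hz]
      exact (Submodule.Quotient.mk_eq_zero _).2 (Ideal.mem_sup_right (Ideal.mem_span_singleton'.2 ⟨b, mul_comm _ _⟩))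
  exact Module.length_eq_add_of_exact (LocalizedModule.map q.primeCompl f) (LocalizedModule.map q.primeCompl g)
    (LocalizedModule.map_injective _ _ hf) (LocalizedModule.map_surjective _ _ (Submodule.factor_surjective _))
    (LocalizedModule.map_exact q.primeCompl f g hex)

theorem L_eq_zero (q : Ideal R) [q.IsPrime] {J : Ideal R} (h : ¬ J ≤ q) : L q J = 0 := by
  obtain ⟨r, hr, hrq⟩ := SetLike.not_le_iff_exists.1 h
  haveI : Subsingleton (LocalizedModule q.primeCompl (R ⧸ J)) := LocalizedModule.subsingleton_iff.2 fun m => by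
    obtain ⟨x, rfl⟩ := Submodule.mkQ_surjective J m
    exact ⟨r, hrq, (Submodule.Quotient.mk_eq_zero J).2 (J.mul_mem_right x hr)⟩
  exact Module.length_eq_zero

theorem L_self (q : Ideal R) [q.IsPrime] : L q q = 1 := by
  let A := Localization.AtPrime q
  let one : LocalizedModule q.primeCompl (R ⧸ q) := LocalizedModule.mk (Submodule.Quotient.mk (1 : R)) 1
  let φ : A →ₗ[A] LocalizedModule q.primeCompl (R ⧸ q) := LinearMap.toSpanSingleton A _ one
  have hφ : ∀ r s, φ (Localization.mk r s) = LocalizedModule.mk (Submodule.Quotient.mk r) s := fun r s => by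
    show (Localization.mk r s : A) • LocalizedModule.mk (Submodule.Quotient.mk (1 : R) : R ⧸ q) (1 : q.primeCompl) = _
    rw [LocalizedModule.mk_smul_mk, mul_one, ← Submodule.Quotient.mk_smul, smul_eq_mul, mul_one]
  have hsurj : Function.Surjective φ := fun y => by
    induction y using LocalizedModule.induction_on with
    | h m s =>
      obtain ⟨r, rfl⟩ := Submodule.mkQ_surjective q m
      exact ⟨Localization.mk r s, hφ r s⟩
  have hker : LinearMap.ker φ = IsLocalRing.maximalIdeal A := by
    ext x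
    induction x using Localization.induction_on with
    | H y =>
      obtain ⟨r, s⟩ := y
      rw [LinearMap.mem_ker, hφ, IsLocalRing.mem_maximalIdeal, mem_nonunits_iff, Localization.mk_eq_mk',
        IsLocalization.AtPrime.isUnit_mk'_iff A q r s, ← LocalizedModule.zero_mk (1 : q.primeCompl),
        LocalizedModule.mk_eq]
      constructor
      · rintro ⟨u, hu⟩ hr
        rw [one_smul, smul_zero, smul_zero] at hu
        have h2 : (u : R) * r ∈ q := (Submodule.Quotient.mk_eq_zero q).1 hu
        exact hr ((Ideal.IsPrime.mem_or_mem ‹_› h2).resolve_left u.2)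
      · intro hr
        refine ⟨1, ?_⟩
        have h0 : (Submodule.Quotient.mk r : R ⧸ q) = 0 := (Submodule.Quotient.mk_eq_zero q).2 (not_not.1 hr)
        rw [h0]; simp
  show Module.length A (LocalizedModule q.primeCompl (R ⧸ q)) = 1
  rw [← (φ.quotKerEquivOfSurjective hsurj).length_eq, (Submodule.quotEquivOfEq _ _ hker).length_eq]
  exact HSLib.length_residueField

theorem exists_homogeneous_mem_not_mem {p q : Ideal R} (hq : Hom q) (h : ¬ q ≤ p) :
    ∃ (a : R) (e : ℕ), a.IsHomogeneous e ∧ a ∈ q ∧ a ∉ p := by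
  obtain ⟨x, hx, hxp⟩ := SetLike.not_le_iff_exists.1 h
  by_contra hno
  push Not at hno
  refine hxp ?_
  rw [← sum_homogeneousComponent x]
  exact Ideal.sum_mem _ fun i _ => hno _ i (homogeneousComponent_isHomogeneous i x) (component_mem hq i hx)

theorem evPoly_eq_zero_top {P : Polynomial ℚ} (hP : EvPoly (h (⊤ : Ideal R)) P) : P = 0 :=
  evPoly_unique hP (Eventually.of_forall fun m => by simp [h_top])

theorem natDegree_lt_of_lt {p q : Ideal R} [p.IsPrime] (hp : Hom p) (hq : Hom q) (hlt : p < q) {P Q : Polynomial ℚ}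
    (hP : EvPoly (h p) P) (hQ : EvPoly (h q) Q) (hQ0 : Q ≠ 0) : Q.natDegree < P.natDegree := by
  obtain ⟨a, e, ha, haq, hap⟩ := exists_homogeneous_mem_not_mem hq hlt.not_ge
  rcases Nat.eq_zero_or_pos e with rfl | he
  · refine absurd ?_ hQ0
    have hu : IsUnit a := by
      have e1 : a = C (coeff 0 a) := by
        conv_lhs => rw [← homogeneousComponent_of_mem (show a ∈ homogeneousSubmodule (Fin (n + 1)) k 0 from ha) (m := 0) |>.trans (if_pos rfl)]
        exact homogeneousComponent_zero a
      rw [e1]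
      refine (isUnit_iff_ne_zero.2 fun h0 => hap ?_).map C
      rw [e1, h0, map_zero]
      exact p.zero_mem
    refine evPoly_eq_zero_top (k := k) (n := n) ?_
    rwa [← Ideal.eq_top_of_isUnit_mem q haq hu]
  obtain ⟨P₂, hP₂⟩ := exists_evPoly (p ⊔ Ideal.span {a}) (hom_sup_span hp ha)
  have hle := natDegree_le_of_le (sup_le hlt.le (Ideal.span_le.2 (Set.singleton_subset_iff.2 haq))) hP₂ hQ
  have hP1 : EvPoly (h (colon p a)) P := by rw [colon_prime hap]; exact hP
  have heq : P₂ = P - P.comp (Polynomial.X - Polynomial.C (e : ℚ)) := by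
    rw [eq_sub_iff_add_eq']
    exact evPoly_unique (evPoly_add hp ha hP1 hP₂) hP
  rcases Nat.eq_zero_or_pos P.natDegree with h0 | h0
  · have hP2 : P₂ = 0 := by
      rw [heq, Polynomial.eq_C_of_natDegree_eq_zero h0, Polynomial.C_comp, sub_self]
    refine absurd ?_ hQ0
    refine evPoly_unique hQ ?_
    filter_upwards [hP₂] with m hm
    rw [hP2, Polynomial.eval_zero, Nat.cast_eq_zero] at hm
    have := (h_mono (sup_le hlt.le (Ideal.span_le.2 (Set.singleton_subset_iff.2 haq))) m).trans hm.le
    simp [Nat.le_zero.1 this]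
  · obtain ⟨t, ht⟩ := Nat.exists_eq_add_of_le' h0
    have := (diff_coeff (e : ℚ) ht.le).1
    rw [← heq] at this
    omega

/-- The top coefficient. -/
theorem coeff_eq {I₀ : Ideal R} (hI₀ : Hom I₀) {P : Polynomial ℚ} (hP : EvPoly (h I₀) P) {t : ℕ}
    (ht : P.natDegree ≤ t) {r : ℕ} (p : Fin r → Ideal R) [hp : ∀ i, (p i).IsPrime] (hpinj : Function.Injective p)
    (hpmin : ∀ q : Ideal R, q ∈ I₀.minimalPrimes ↔ ∃ i, q = p i)
    (Qp : Fin r → Polynomial ℚ) (hQp : ∀ i, EvPoly (h (p i)) (Qp i)) :
    P.coeff t = ∑ i : Fin r, if (Qp i).natDegree = t ∧ Qp i ≠ 0 then (Qp i).coeff t * ((L (p i) I₀).toNat : ℚ) else 0 := by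
  classical
  let T := Finset.univ.filter fun i : Fin r => (Qp i).natDegree = t ∧ Qp i ≠ 0
  rw [← Finset.sum_filter]
  have hmin : ∀ i, p i ∈ I₀.minimalPrimes := fun i => (hpmin _).2 ⟨i, rfl⟩
  have hph : ∀ i, Hom (p i) := fun i => VarDim.ProjN.minimalPrimes_isHomogeneous hI₀ (hmin i)
  suffices key : ∀ J : Ideal R, I₀ ≤ J → Hom J → ∀ PJ : Polynomial ℚ, EvPoly (h J) PJ →
      PJ.coeff t = ∑ i ∈ T, (Qp i).coeff t * ((L (p i) J).toNat : ℚ) ∧ ∀ i ∈ T, L (p i) J ≠ ⊤ from
    (key I₀ le_rfl hI₀ P hP).1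
  intro J
  induction J using IsNoetherian.induction with
  | hgt J ih =>
    intro hle hJ PJ hPJ
    have hdeg : PJ.natDegree ≤ t := (natDegree_le_of_le hle hP hPJ).trans ht
    by_cases htop : J = ⊤
    · subst htop
      have h0 : ∀ i, L (p i) (⊤ : Ideal R) = 0 := fun i => L_eq_zero _ fun h1 => (hp i).ne_top (top_le_iff.1 h1)
      refine ⟨?_, fun i _ => by rw [h0]; exact ENat.zero_ne_top⟩
      simp [evPoly_eq_zero_top hPJ, h0]
    by_cases hJp : Ideal.IsPrime J
    · haveI := hJp
      have hne : ∀ i ∈ T, J ≠ p i → L (p i) J = 0 := fun i hi hne => L_eq_zero _ fun hJi => by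
        obtain ⟨h1, h2⟩ := (Finset.mem_filter.1 hi).2
        have := natDegree_lt_of_lt hJ (hph i) (lt_of_le_of_ne hJi hne) hPJ (hQp i) h2
        omega
      by_cases hmem : ∃ i ∈ T, J = p i
      · obtain ⟨i, hi, rfl⟩ := hmem
        refine ⟨?_, fun j hj => ?_⟩
        · rw [Finset.sum_eq_single_of_mem i hi fun j hj hji => by
            rw [hne j hj fun h1 => hji (hpinj h1).symm]; simp, L_self, evPoly_unique hPJ (hQp i)]
          simp
        · by_cases hji : j = i
          · subst hji; rw [L_self]; exact ENat.one_ne_top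
          · rw [hne j hj fun h1 => hji (hpinj h1).symm]; exact ENat.zero_ne_top
      · push Not at hmem
        refine ⟨?_, fun i hi => by rw [hne i hi (hmem i hi)]; exact ENat.zero_ne_top⟩
        rw [Finset.sum_eq_zero fun i hi => by rw [hne i hi (hmem i hi)]; simp]
        by_contra hc
        have hPJ0 : PJ ≠ 0 := fun h1 => hc (by rw [h1, Polynomial.coeff_zero])
        have hPJt : PJ.natDegree = t := le_antisymm hdeg (Polynomial.le_natDegree_of_ne_zero hc)
        obtain ⟨q, hq, hqJ⟩ := Ideal.exists_minimalPrimes_le hle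
        obtain ⟨i, rfl⟩ := (hpmin q).1 hq
        have hit : (Qp i).natDegree ≤ t := (natDegree_le_of_le hq.1.2 hP (hQp i)).trans ht
        rcases hqJ.eq_or_lt with heq | hlt
        · subst heq
          have hu := evPoly_unique hPJ (hQp i)
          subst hu
          exact hmem i (Finset.mem_filter.2 ⟨Finset.mem_univ _, hPJt, hPJ0⟩) rfl
        · have := natDegree_lt_of_lt (hph i) hJ hlt (hQp i) hPJ hPJ0
          omega
    · obtain ⟨a, e, ha, h1, h2⟩ := exists_split hJ htop hJp
      obtain ⟨P₁, hP₁⟩ := exists_evPoly _ (hom_colon hJ ha)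
      obtain ⟨P₂, hP₂⟩ := exists_evPoly _ (hom_sup_span hJ ha)
      obtain ⟨c1, f1⟩ := ih _ h1 (hle.trans h1.le) (hom_colon hJ ha) P₁ hP₁
      obtain ⟨c2, f2⟩ := ih _ h2 (hle.trans h2.le) (hom_sup_span hJ ha) P₂ hP₂
      have hd1 : P₁.natDegree ≤ t := (natDegree_le_of_le (hle.trans h1.le) hP hP₁).trans ht
      refine ⟨?_, fun i hi => by rw [L_add _ J a]; exact WithTop.add_ne_top.2 ⟨f1 i hi, f2 i hi⟩⟩
      rw [evPoly_unique hPJ (evPoly_add hJ ha hP₁ hP₂), Polynomial.coeff_add, coeff_shift_top _ hd1, c1, c2,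
        ← Finset.sum_add_distrib]
      refine Finset.sum_congr rfl fun i hi => ?_
      rw [L_add _ J a, ENat.toNat_add (f1 i hi) (f2 i hi), Nat.cast_add, mul_add]

/-- The degree of a scheme is the sum over its top components. -/
theorem leadingCoeff_eq {I₀ : Ideal R} (hI₀ : Hom I₀) {P : Polynomial ℚ} (hP : EvPoly (h I₀) P) {r : ℕ}
    (p : Fin r → Ideal R) [hp : ∀ i, (p i).IsPrime] (hpinj : Function.Injective p)
    (hpmin : ∀ q : Ideal R, q ∈ I₀.minimalPrimes ↔ ∃ i, q = p i)
    (Qp : Fin r → Polynomial ℚ) (hQp : ∀ i, EvPoly (h (p i)) (Qp i)) :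
    (P.natDegree.factorial : ℚ) * P.leadingCoeff =
      ∑ i : Fin r, if (Qp i).natDegree = P.natDegree then
        ((Qp i).natDegree.factorial : ℚ) * (Qp i).leadingCoeff * ((L (p i) I₀).toNat : ℚ) else 0 := by
  rw [Polynomial.leadingCoeff, coeff_eq hI₀ hP le_rfl p hpinj hpmin Qp hQp, Finset.mul_sum]
  refine Finset.sum_congr rfl fun i _ => ?_
  by_cases h1 : (Qp i).natDegree = P.natDegree
  · by_cases h2 : Qp i = 0
    · rw [h2, Polynomial.leadingCoeff_zero]; simp
    · rw [if_pos ⟨h1, h2⟩, if_pos h1, Polynomial.leadingCoeff, h1]; ring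
  · rw [if_neg fun h => h1 h.1, if_neg h1, mul_zero]

end Groth.Agent.GrHilb
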