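import Groth.Agent.GrHilb.Section
import Groth.Agent.S10907
import Mathlib.RingTheory.Ideal.KrullsHeightTheorem

/-!
Components of a hypersurface section of a projective variety have codimension one.
-/

set_option autoImplicit false
set_option linter.style.haveILetI false
set_option backward.isDefEq.respectTransparency false
set_option backward.isDefEq.respectTransparency.types false

universe u

open MvPolynomial Filter

namespace Groth.Agent.GrHilb

open HSLib (EvPoly)

variable {k : Type u} [Field k] {n : ℕ}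

local notation "R" => MvPolynomial (Fin (n + 1)) k

theorem hyp_of_evPoly {I : Ideal R} {P : Polynomial ℚ} (hP : EvPoly (h I) P) :
    ∃ m₀ : ℕ, ∀ m : ℕ, m₀ ≤ m → P.eval (m : ℚ) =
      (Module.finrank k ↥(CohB1.polyGrading n k m) : ℚ) -
        Module.finrank k ↥(Submodule.restrictScalars k I ⊓ CohB1.polyGrading n k m) := by
  obtain ⟨m₀, hm⟩ := eventually_atTop.1 hP
  exact ⟨m₀, fun m hm' => (hm m hm').symm.trans (h_cast I m)⟩

/-- A prime with vanishing Hilbert polynomial is the vertex. -/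
theorem eq_vertex_of_evPoly_zero {q : Ideal R} [q.IsPrime] (hq : Hom q) (hQ : EvPoly (h q) 0) :
    q = VarDim.ProjN.vertex k n := by
  refine le_antisymm (VarDim.ProjN.le_vertex_of_isHomogeneous hq Ideal.IsPrime.ne_top') fun x hx => ?_
  obtain ⟨N, hN⟩ := eventually_atTop.1 hQ
  have hX : ∀ i, (X i : R) ∈ q := fun i => by
    refine (‹q.IsPrime›).mem_of_pow_mem (N + 1) ?_
    have h0 : h q (N + 1) = 0 := by exact_mod_cast (hN (N + 1) (by omega)).trans Polynomial.eval_zero
    haveI := finite_piece (k := k) (n := n) (N + 1)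
    have h1 := Module.finrank_zero_iff.1 (show Module.finrank k (↥(homogeneousSubmodule (Fin (n + 1)) k (N + 1)) ⧸
      (Submodule.restrictScalars k q).comap (homogeneousSubmodule (Fin (n + 1)) k (N + 1)).subtype) = 0 from h0)
    have h2 := Submodule.Quotient.subsingleton_iff.1 h1
    have h3 : (⟨(X i : R) ^ (N + 1), by simpa using (isHomogeneous_X k i).pow (N + 1)⟩ :
        ↥(homogeneousSubmodule (Fin (n + 1)) k (N + 1))) ∈
        (Submodule.restrictScalars k q).comap (homogeneousSubmodule (Fin (n + 1)) k (N + 1)).subtype := by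
      rw [h2]; exact Submodule.mem_top
    exact h3
  rw [x.as_sum]
  refine Ideal.sum_mem _ fun d hd => ?_
  obtain ⟨i, hi⟩ : ∃ i, d i ≠ 0 := by
    by_contra hh
    push Not at hh
    have hd0 : d = 0 := Finsupp.ext hh
    subst hd0
    exact mem_support_iff.1 hd hx
  have e1 : monomial d (coeff d x) = monomial (d - Finsupp.single i 1) (coeff d x) * X i := by
    rw [X, monomial_mul, mul_one, tsub_add_cancel_of_le (Finsupp.single_le_iff.2 (Nat.one_le_iff_ne_zero.2 hi))]
  rw [e1]
  exact q.mul_mem_left _ (hX i)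

/-- The dimension drops by exactly one on each component of a hypersurface section. -/
theorem dim_component {I : Ideal R} [I.IsPrime] {f : R} (hfI : f ∉ I) {q : Ideal R} [q.IsPrime]
    (hq : q ∈ (I ⊔ Ideal.span {f}).minimalPrimes) : ringKrullDim (R ⧸ q) + 1 = ringKrullDim (R ⧸ I) := by
  let A := R ⧸ I
  have hIq : I ≤ q := le_sup_left.trans hq.1.2
  let qb : Ideal A := q.map (Ideal.Quotient.mk I)
  have hcq : qb.comap (Ideal.Quotient.mk I) = q := by
    rw [Ideal.comap_map_of_surjective _ Ideal.Quotient.mk_surjective, ← RingHom.ker_eq_comap_bot, Ideal.mk_ker,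
      sup_eq_left.2 hIq]
  haveI : qb.IsPrime := Ideal.map_isPrime_of_surjective Ideal.Quotient.mk_surjective (by rw [Ideal.mk_ker]; exact hIq)
  have hmin : qb ∈ (Ideal.span {Ideal.Quotient.mk I f}).minimalPrimes := by
    rw [show Ideal.span {Ideal.Quotient.mk I f} = (I ⊔ Ideal.span {f}).map (Ideal.Quotient.mk I) by
      rw [Ideal.map_sup, Ideal.map_quotient_self, bot_sup_eq, Ideal.map_span, Set.image_singleton]]
    refine ⟨⟨inferInstance, Ideal.map_mono hq.1.2⟩, fun Q ⟨hQ, hQle⟩ hle => ?_⟩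
    haveI := hQ
    have h1 : q ≤ Q.comap (Ideal.Quotient.mk I) := hq.2 ⟨inferInstance, Ideal.map_le_iff_le_comap.1 hQle⟩
      (hcq ▸ Ideal.comap_mono hle)
    exact (Ideal.map_mono h1).trans Ideal.map_comap_le
  have hle1 : qb.height ≤ 1 := Ideal.height_le_one_of_isPrincipal_of_mem_minimalPrimes _ qb hmin
  have hne : qb ≠ ⊥ := fun h0 => hfI (by
    have h1 := hmin.1.2 (Ideal.mem_span_singleton_self (Ideal.Quotient.mk I f))
    rw [h0, Ideal.mem_bot, Ideal.Quotient.eq_zero_iff_mem] at h1
    exact h1)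
  let P : PrimeSpectrum A := ⟨qb, inferInstance⟩
  have hP1 : Order.height P = 1 := by
    refine le_antisymm ((PrimeSpectrum.height_eq_orderHeight P).symm.le.trans hle1) ?_
    refine Order.one_le_iff_pos.2 (Order.height_pos.2 fun hmin0 => hne ?_)
    exact le_bot_iff.1 (hmin0 (b := ⟨⊥, Ideal.isPrime_bot⟩) bot_le)
  obtain ⟨D, hD, -⟩ := VarDim.exists_dim_eq_trdeg k A
  have h2 := VarDim.height_add_coheight_eq k D A hD P
  rw [hP1] at h2
  have h3 := VarDim.coheight_eq_ringKrullDim_quotient P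
  have e : ringKrullDim (A ⧸ qb) = ringKrullDim (R ⧸ q) := by
    rw [ringKrullDim_eq_of_ringEquiv (DoubleQuot.quotQuotEquivQuotSup I q)]
    rw [sup_eq_right.2 hIq]
  rw [← e, hD, show ringKrullDim (A ⧸ qb) = (Order.coheight P : WithBot ℕ∞) from h3.symm]
  have h4 : Order.coheight P + 1 = (D : ℕ∞) := by rw [add_comm]; exact h2
  exact_mod_cast congrArg (fun z : ℕ∞ => (z : WithBot ℕ∞)) h4

theorem natDegree_component {I : Ideal R} [I.IsPrime] (hI : Hom I) {f : R} {d : ℕ} (hf : f.IsHomogeneous d) (hfI : f ∉ I)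
    {P : Polynomial ℚ} (hP : EvPoly (h I) P) (hdim : 1 ≤ P.natDegree) {q : Ideal R} [q.IsPrime]
    (hq : q ∈ (I ⊔ Ideal.span {f}).minimalPrimes) {Q : Polynomial ℚ} (hQ : EvPoly (h q) Q) :
    Q.natDegree + 1 = P.natDegree ∧ Q ≠ 0 := by
  have hqh : Hom q := VarDim.ProjN.minimalPrimes_isHomogeneous (hom_sup_span hI hf) hq
  have h1 := S10907.result k n I hI P (fun h0 => by simp [h0] at hdim) (hyp_of_evPoly hP)
  have h2 := dim_component hfI hq
  rw [h1] at h2
  have hQ0 : Q ≠ 0 := by
    rintro rfl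
    have hv := eq_vertex_of_evPoly_zero hqh hQ
    letI := Ideal.Quotient.field (VarDim.ProjN.vertex k n)
    rw [ringKrullDim_eq_of_ringEquiv (Ideal.quotEquivOfEq hv), ringKrullDim_eq_zero_of_field] at h2
    have : (0 : ℕ) + 1 = P.natDegree + 1 := by exact_mod_cast h2
    omega
  refine ⟨?_, hQ0⟩
  rw [S10907.result k n q hqh Q hQ0 (hyp_of_evPoly hQ)] at h2
  have : Q.natDegree + 1 + 1 = P.natDegree + 1 := by exact_mod_cast h2
  omega

end Groth.Agent.GrHilb
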