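import Groth.Agent.HSLib.Poly
import Mathlib.Algebra.Polynomial.Taylor
import Mathlib.Algebra.Polynomial.HasseDeriv

/-!
Polynomials agreeing with a sequence for large arguments: uniqueness, shifts and differences.
-/

set_option autoImplicit false

open Polynomial Filter

namespace Groth.Agent.GrHilb

open HSLib (EvPoly)

theorem evPoly_unique {f : ℕ → ℕ} {P Q : ℚ[X]} (hP : EvPoly f P) (hQ : EvPoly f Q) : P = Q := by
  obtain ⟨N, hN⟩ := eventually_atTop.1 (hP.and hQ)
  refine Polynomial.eq_of_infinite_eval_eq _ _ (((Set.Ici_infinite N).image Nat.cast_injective.injOn).mono ?_)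
  rintro _ ⟨m, hm, rfl⟩
  exact (hN m hm).1.symm.trans (hN m hm).2

theorem evPoly_shift {f : ℕ → ℕ} {P : ℚ[X]} (hP : EvPoly f P) (e : ℕ) :
    ∀ᶠ m : ℕ in atTop, (f (m - e) : ℚ) = (P.comp (X - C (e : ℚ))).eval (m : ℚ) := by
  filter_upwards [(tendsto_sub_atTop_nat e).eventually hP, eventually_ge_atTop e] with m h hm
  rw [h, eval_comp, eval_sub, eval_X, eval_C, Nat.cast_sub hm]

theorem coeff_shift (P : ℚ[X]) (d : ℚ) (j : ℕ) (hP : P.natDegree ≤ j + 1) :
    (P.comp (X - C d)).coeff j = P.coeff j - ((j : ℚ) + 1) * d * P.coeff (j + 1) := by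
  have e : P.comp (X - C d) = taylor (-d) P := by rw [taylor_apply, map_neg, sub_eq_add_neg]
  have hle : (hasseDeriv j P).natDegree ≤ 1 := le_trans (natDegree_hasseDeriv_le P j) (by omega)
  rw [e, taylor_coeff, eq_X_add_C_of_natDegree_le_one hle, eval_add, eval_mul, eval_C, eval_X, eval_C,
    hasseDeriv_coeff, hasseDeriv_coeff, zero_add, Nat.choose_self, add_comm 1 j, Nat.choose_succ_self_right]
  push_cast
  ring

theorem natDegree_comp_sub (P : ℚ[X]) (d : ℚ) : (P.comp (X - C d)).natDegree = P.natDegree := by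
  rw [natDegree_comp, natDegree_X_sub_C, mul_one]

/-- The difference with a shift lowers the degree and multiplies the top coefficient. -/
theorem diff_coeff {P : ℚ[X]} {t : ℕ} (d : ℚ) (hP : P.natDegree ≤ t + 1) :
    (P - P.comp (X - C d)).natDegree ≤ t ∧
      (P - P.comp (X - C d)).coeff t = ((t : ℚ) + 1) * d * P.coeff (t + 1) := by
  refine ⟨natDegree_le_iff_coeff_eq_zero.2 fun j hj => ?_, by rw [coeff_sub, coeff_shift P d t hP]; ring⟩
  rw [coeff_sub, coeff_shift P d j (by omega), coeff_eq_zero_of_natDegree_lt (by omega : P.natDegree < j + 1)]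
  ring

/-- A shift keeps the top coefficient. -/
theorem coeff_shift_top {P : ℚ[X]} {t : ℕ} (d : ℚ) (hP : P.natDegree ≤ t) :
    (P.comp (X - C d)).coeff t = P.coeff t := by
  rw [coeff_shift P d t (by omega), coeff_eq_zero_of_natDegree_lt (by omega : P.natDegree < t + 1)]
  ring

end Groth.Agent.GrHilb
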