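import Groth.Agent.GrHilb.Decomp

/-!
Hilbert polynomial of a hypersurface section.
-/

set_option autoImplicit false
set_option backward.isDefEq.respectTransparency false
set_option backward.isDefEq.respectTransparency.types false

universe u

open MvPolynomial Filter

namespace Groth.Agent.GrHilb

open HSLib (EvPoly)

variable {k : Type u} [Field k] {n : ℕ}

local notation "R" => MvPolynomial (Fin (n + 1)) k

/-- Cutting by a nonzerodivisor of degree `d` differences the Hilbert polynomial. -/
theorem evPoly_section {I : Ideal R} (hI : Hom I) {f : R} {d : ℕ} (hf : f.IsHomogeneous d) (hcol : colon I f = I)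
    {P : Polynomial ℚ} (hP : EvPoly (h I) P) :
    EvPoly (h (I ⊔ Ideal.span {f})) (P - P.comp (Polynomial.X - Polynomial.C (d : ℚ))) := by
  obtain ⟨Q, hQ⟩ := exists_evPoly _ (hom_sup_span hI hf)
  have h1 : EvPoly (h (colon I f)) P := by rw [hcol]; exact hP
  have h2 := evPoly_unique (evPoly_add hI hf h1 hQ) hP
  rwa [show P - P.comp (Polynomial.X - Polynomial.C (d : ℚ)) = Q by rw [sub_eq_iff_eq_add']; exact h2.symm]

/-- Degree and leading coefficient of the difference. -/
theorem section_degree {P : Polynomial ℚ} {d : ℕ} (hd : 0 < d) (hdim : 1 ≤ P.natDegree) :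
    (P - P.comp (Polynomial.X - Polynomial.C (d : ℚ))).natDegree + 1 = P.natDegree ∧
      ((P - P.comp (Polynomial.X - Polynomial.C (d : ℚ))).natDegree.factorial : ℚ) *
          (P - P.comp (Polynomial.X - Polynomial.C (d : ℚ))).leadingCoeff =
        d * ((P.natDegree.factorial : ℚ) * P.leadingCoeff) := by
  obtain ⟨t, ht⟩ := Nat.exists_eq_add_of_le' hdim
  obtain ⟨h1, h2⟩ := diff_coeff (d : ℚ) ht.le
  have hc : P.coeff (t + 1) ≠ 0 := by
    rw [← ht]
    exact Polynomial.leadingCoeff_ne_zero.2 fun h => by simp [h] at hdim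
  have hne : ((t : ℚ) + 1) * d * P.coeff (t + 1) ≠ 0 :=
    mul_ne_zero (mul_ne_zero (by positivity) (Nat.cast_ne_zero.2 hd.ne')) hc
  have hQ := le_antisymm h1 (Polynomial.le_natDegree_of_ne_zero (h2 ▸ hne))
  refine ⟨by rw [hQ, ht], ?_⟩
  rw [Polynomial.leadingCoeff, hQ, h2, Polynomial.leadingCoeff, ht, Nat.factorial_succ]
  push_cast
  ring

end Groth.Agent.GrHilb
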